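import Groth.Agent.MagnetDescent.Comap

/-!
# Attractors of subgroups are fixed points
-/

set_option autoImplicit false
set_option backward.isDefEq.respectTransparency.types true
universe u

open CategoryTheory CategoryTheory.Limits MonoidalCategory CartesianMonoidalCategory MonObj AlgebraicGeometry Opposite
open Magnet Groth.MiscGeom.Mag

noncomputable section

namespace Groth.MagnetDescent

variable {S : Scheme.{u}} {X : Over S}

theorem point_bot_eq {Z : Type} [AddCommMonoid Z] {W : Over S} (x y : W ⟶ AMonS S ↥(⊥ : AddSubmonoid Z)) :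
    x = y :=
  pv_ext fun m => by rw [show m = 1 from Multiplicative.toAdd.injective (Subtype.ext (AddSubmonoid.mem_bot.mp m.toAdd.2)),
    map_one, map_one]

/-- `X^{0} ≅` fixed points -/
def attrBotIso {Z : Type} [AddCommMonoid Z] (b : MonAct (AMonS S Z) X) :
    attr b (⊥ : AddSubmonoid Z) ≅ MonAct.fixedPsh b :=
  NatIso.ofComponents
    (fun T => (show (attr b (⊥ : AddSubmonoid Z)).obj T ≃ (MonAct.fixedPsh b).obj T from
      { toFun := fun φ => ⟨lift (toUnit (unop T) ≫ η[AMonS S ↥(⊥ : AddSubmonoid Z)]) (𝟙 (unop T)) ≫ φ.1,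
          fun T' t g => by
            simp only [comp_lift_assoc, Category.comp_id]
            rw [← (MonAct.mem_eqvHom_iff (ρ := subAct S Z ⊥) (a := b) φ.1).1 φ.2,
              point_bot_eq (lift g (t ≫ toUnit (unop T) ≫ η[AMonS S ↥(⊥ : AddSubmonoid Z)]) ≫
                (subAct S Z ⊥).act) (t ≫ toUnit (unop T) ≫ η[AMonS S ↥(⊥ : AddSubmonoid Z)])]⟩
        invFun := fun x => ⟨snd _ _ ≫ x.1, by
          rw [MonAct.mem_eqvHom_iff]
          intro T' g c t
          rw [lift_snd_assoc, lift_snd_assoc]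
          exact (x.2 T' t g).symm⟩
        left_inv := fun φ => Subtype.ext (by
          refine hom_ext_lift₂ fun W c t => ?_
          rw [lift_snd_assoc, comp_lift_assoc, Category.comp_id,
            point_bot_eq (t ≫ toUnit (unop T) ≫ η[AMonS S ↥(⊥ : AddSubmonoid Z)]) c])
        right_inv := fun x => Subtype.ext ((lift_snd_assoc _ _ x.1).trans (Category.id_comp _)) }).toIso)
    fun {T T'} t => by
      ext φ
      apply Subtype.ext
      change lift (toUnit (unop T') ≫ η[AMonS S ↥(⊥ : AddSubmonoid Z)]) (𝟙 (unop T')) ≫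
          (AMonS S ↥(⊥ : AddSubmonoid Z) ◁ t.unop) ≫ φ.1 =
        t.unop ≫ lift (toUnit (unop T) ≫ η[AMonS S ↥(⊥ : AddSubmonoid Z)]) (𝟙 (unop T)) ≫ φ.1
      rw [lift_whiskerLeft_assoc, Category.id_comp, comp_lift_assoc, Category.comp_id,
        point_bot_eq (t.unop ≫ toUnit (unop T) ≫ η[AMonS S ↥(⊥ : AddSubmonoid Z)])
          (toUnit (unop T') ≫ η[AMonS S ↥(⊥ : AddSubmonoid Z)])]

theorem exists_iso_fixedPsh {M Z : Type} [AddCommGroup M] [AddCommGroup Z] (f : M →+ Z)
    (a : MonAct (AMonS S M) X) (N : AddSubmonoid M) (hN : (⊥ : AddSubmonoid Z).comap f = N) :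
    ∃ e : attr a N ≅ MonAct.fixedPsh (a.restrict (AMonS.map S f)),
      e.hom ≫ MonAct.fixedPshι _ = attrToX a N := by
  subst hN
  have := isIso_attrComap f ⊥ a bot_le
  refine ⟨asIso (attrComap a f ⊥) ≪≫ attrBotIso _, ?_⟩
  ext T φ
  show lift (toUnit (unop T) ≫ η[AMonS S ↥(⊥ : AddSubmonoid Z)]) (𝟙 (unop T)) ≫
      (AMonS.map S (fY f (⊥ : AddSubmonoid Z)) ▷ unop T) ≫ φ.1 =
    lift (toUnit (unop T) ≫ η[AMonS S ↥((⊥ : AddSubmonoid Z).comap f)]) (𝟙 (unop T)) ≫ φ.1
  rw [lift_whiskerRight_assoc, Category.assoc, IsMonHom.one_hom]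

end Groth.MagnetDescent
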