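import Groth.Agent.MagnetDescent.Cover
import Groth.Prelude.Def_Magnet3

/-!
# Change of group for attractors: descent
-/

set_option autoImplicit false
set_option backward.isDefEq.respectTransparency.types true
universe u

open CategoryTheory CategoryTheory.Limits MonoidalCategory CartesianMonoidalCategory MonObj AlgebraicGeometry Opposite
open Magnet Groth.MiscGeom.Mag

noncomputable section

namespace Groth.MagnetDescent

variable {S : Scheme.{u}} {M Z : Type} [AddCommGroup M] [AddCommGroup Z] {X : Over S}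
  (f : M →+ Z) (Y : AddSubmonoid Z)

/-- `N → Y` -/
abbrev fY : ↥(Y.comap f) →+ ↥Y := (f.comp (Y.comap f).subtype).codRestrict Y (fun x => x.2)

/-- `N → M × Y` -/
abbrev jMY : ↥(Y.comap f) →+ M × ↥Y := (Y.comap f).subtype.prod (fY f Y)

variable (S) in
/-- the cover `A(M × Y) → A(N)` -/
abbrev cN : AMonS S (M × ↥Y) ⟶ AMonS S ↥(Y.comap f) := AMonS.map S (jMY f Y)

variable (S M) in
/-- first factor -/
abbrev pM : AMonS S (M × ↥Y) ⟶ AMonS S M := AMonS.map S (AddMonoidHom.inl M ↥Y)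

variable (S M) in
/-- second factor -/
abbrev pY : AMonS S (M × ↥Y) ⟶ AMonS S ↥Y := AMonS.map S (AddMonoidHom.inr M ↥Y)

theorem isCov_cN (hY : Y ≤ AddMonoidHom.mrange f) : IsCov (cN S f Y) := by
  have hmk : ∀ q : M ⧸ f.ker, (QuotientAddGroup.mk q.out : M ⧸ f.ker) = q := fun q ↦ Quotient.out_eq q
  have hker : ∀ q : M ⧸ f.ker, ∀ q' : M ⧸ f.ker, f (q.out - q'.out) = 0 → q = q' := by
    intro q q' h
    rw [← hmk q, ← hmk q', QuotientAddGroup.eq_iff_sub_mem]
    exact h
  refine isCov_map S (jMY f Y) (Q := M ⧸ f.ker) (fun q => (q.out, 0)) ⟨?_, ?_⟩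
  · rintro ⟨q, n⟩ ⟨q', n'⟩ e
    have e1 : q.out + (n : M) = q'.out + (n' : M) := congrArg Prod.fst e
    have e2 : f (n : M) = f (n' : M) :=
      congrArg Subtype.val (show fY f Y n = fY f Y n' by simpa using congrArg Prod.snd e)
    have hq : q = q' := hker q q' (by
      rw [show q.out - q'.out = (n' : M) - (n : M) from by rw [sub_eq_sub_iff_add_eq_add, e1, add_comm],
        map_sub, e2, sub_self])
    subst hq
    exact Prod.ext rfl (Subtype.ext (add_left_cancel e1))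
  · rintro ⟨m, y⟩
    obtain ⟨n₀, hn₀⟩ := hY y.2
    let q : M ⧸ f.ker := QuotientAddGroup.mk (m - n₀)
    have hk : f (m - n₀ - q.out) = 0 := (QuotientAddGroup.eq_iff_sub_mem.mp (hmk q).symm : m - n₀ - q.out ∈ f.ker)
    have hn : f (m - q.out) = (y : Z) := by
      rw [show m - q.out = (m - n₀ - q.out) + n₀ from by abel, map_add, hk, zero_add, hn₀]
    refine ⟨(q, ⟨m - q.out, show f (m - q.out) ∈ Y from hn ▸ y.2⟩), ?_⟩
    apply Prod.ext
    · simp
    · simp
      exact Subtype.ext hn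

theorem pv_map_add {P : Type} [AddCommMonoid P] {W : Over S} (z : W ⟶ AMonS S P) (x y : P) :
    pv z (Multiplicative.ofAdd (x + y)) = pv z (Multiplicative.ofAdd x) * pv z (Multiplicative.ofAdd y) := by
  rw [ofAdd_add, map_mul]

theorem comp_cN {W : Over S} (z : W ⟶ AMonS S (M × ↥Y)) :
    z ≫ cN S f Y =
      ((z ≫ pM S M Y) ≫ AMonS.map S (Y.comap f).subtype) * ((z ≫ pY S M Y) ≫ AMonS.map S (fY f Y)) := by
  refine pv_ext fun n => ?_
  rw [pv_mul, pv_map, pv_map, pv_map, pv_map, pv_map]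
  refine (congrArg (pv z) (congrArg Multiplicative.ofAdd ?_)).trans (pv_map_add z _ _)
  exact Prod.ext (add_zero (Subtype.val n.toAdd)).symm (zero_add (fY f Y n.toAdd)).symm

theorem lift_subAct_act {P : Type} [AddCommMonoid P] (N : AddSubmonoid P) {W : Over S}
    (g : W ⟶ AMonS S P) (b : W ⟶ AMonS S N) :
    lift g b ≫ (subAct S P N).act = (g ≫ AMonS.map S N.subtype) * b :=
  (MonAct.lift_restrict_act _ _ g b).trans (MonAct.lift_regular_act _ _)

variable (a : MonAct (AMonS S M) X)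

/-- value of an element of `X^N` on the cover -/
theorem lift_cN_attr {T W : Over S} (φ : (attr a (Y.comap f)).obj (op T)) (z : W ⟶ AMonS S (M × ↥Y)) (t : W ⟶ T) :
    lift (z ≫ cN S f Y) t ≫ φ.1 =
      lift (z ≫ pM S M Y) (lift ((z ≫ pY S M Y) ≫ AMonS.map S (fY f Y)) t ≫ φ.1) ≫ a.act := by
  rw [← (MonAct.mem_eqvHom_iff (ρ := subAct S M (Y.comap f)) (a := a) φ.1).1 φ.2, lift_subAct_act, comp_cN]

theorem attrComap_injective (hY : Y ≤ AddMonoidHom.mrange f) (T : (Over S)ᵒᵖ) :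
    Function.Injective ((attrComap a f Y).app T) := by
  obtain ⟨T⟩ := T
  intro φ φ' h
  have h1 := congrArg Subtype.val h
  rw [attrComap_app_coe, attrComap_app_coe] at h1
  refine Subtype.ext ?_
  have := ((isCov_cN (S := S) f Y hY).whiskerRight T).epi
  rw [← cancel_epi (cN S f Y ▷ T)]
  refine hom_ext_lift₂ fun W z t => ?_
  have h2 := congrArg (lift (z ≫ pY S M Y) t ≫ ·) h1
  simp only [lift_whiskerRight_assoc] at h2
  rw [lift_whiskerRight_assoc, lift_whiskerRight_assoc, lift_cN_attr, lift_cN_attr, h2]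

theorem exists_character_range {W : Over S} (r : W ⟶ AMonS S M)
    (hr : ∀ k, f k = 0 → pv r (Multiplicative.ofAdd k) = 1) :
    ∃ h₀ : W ⟶ AMonS S ↥f.range, ∀ m, pv h₀ (Multiplicative.ofAdd ⟨f m, ⟨m, rfl⟩⟩) = pv r (Multiplicative.ofAdd m) := by
  have hwd : ∀ m m', f m = f m' → pv r (Multiplicative.ofAdd m) = pv r (Multiplicative.ofAdd m') := by
    intro m m' h
    rw [show m = (m - m') + m' from (sub_add_cancel m m').symm, pv_map_add, hr _ (by rw [map_sub, h, sub_self]),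
      _root_.one_mul]
  choose s hs using fun v : ↥f.range => v.2
  refine ⟨pvPt W
    { toFun := fun v => pv r (Multiplicative.ofAdd (s v.toAdd))
      map_one' := hr _ (hs _)
      map_mul' := fun v w => by
        rw [← pv_map_add]
        refine hwd _ _ ?_
        rw [map_add, hs, hs, hs, toAdd_mul, AddSubgroup.coe_add] }, fun m => ?_⟩
  rw [pv_pvPt]
  exact hwd _ _ (hs _)

/-- the descent condition -/
theorem cover_condition (hY : Y ≤ AddMonoidHom.mrange f) {T W : Over S}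
    (ψ : (attr (a.restrict (AMonS.map S f)) Y).obj (op T)) (z z' : W ⟶ AMonS S (M × ↥Y))
    (hz : z ≫ cN S f Y = z' ≫ cN S f Y) (t : W ⟶ T) :
    lift (z ≫ pM S M Y) (lift (z ≫ pY S M Y) t ≫ ψ.1) ≫ a.act =
      lift (z' ≫ pM S M Y) (lift (z' ≫ pY S M Y) t ≫ ψ.1) ≫ a.act := by
  set g := z ≫ pM S M Y
  set g' := z' ≫ pM S M Y
  set y := z ≫ pY S M Y
  set y' := z' ≫ pY S M Y
  let r : W ⟶ AMonS S M := pvPt W
    { toFun := fun m => pv g' m * pv g m⁻¹
      map_one' := by simp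
      map_mul' := fun m n => by rw [mul_inv, map_mul, map_mul, _root_.mul_mul_mul_comm] }
  have hinv : ∀ m : Multiplicative M, pv g m * pv g m⁻¹ = 1 := fun m => by
    rw [← map_mul, mul_inv_cancel, map_one]
  have hg : g' = g * r := pv_ext fun m => by
    rw [pv_mul, pv_pvPt]
    change _ = pv g m * (pv g' m * pv g m⁻¹)
    rw [mul_left_comm, hinv, _root_.mul_one]
  have hn : ∀ n : ↥(Y.comap f), pv r (Multiplicative.ofAdd (n : M)) * pv y' (Multiplicative.ofAdd (fY f Y n)) =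
      pv y (Multiplicative.ofAdd (fY f Y n)) := by
    intro n
    have h := congrArg (fun w => pv w (Multiplicative.ofAdd n)) hz
    simp only [comp_cN, pv_mul, pv_map] at h
    have h' : pv g (Multiplicative.ofAdd (n : M)) * pv y (Multiplicative.ofAdd (fY f Y n)) =
        pv g' (Multiplicative.ofAdd (n : M)) * pv y' (Multiplicative.ofAdd (fY f Y n)) := by
      simp only [g, g', y, y', pv_map]
      exact h
    rw [pv_pvPt]
    change pv g' (Multiplicative.ofAdd (n : M)) * pv g (Multiplicative.ofAdd (n : M))⁻¹ * _ = _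
    rw [mul_right_comm, ← h', mul_right_comm, hinv, _root_.one_mul]
  have hk : ∀ k, f k = 0 → pv r (Multiplicative.ofAdd k) = 1 := by
    intro k hk
    have hkN : k ∈ Y.comap f := show f k ∈ Y from hk.symm ▸ Y.zero_mem
    have h := hn ⟨k, hkN⟩
    have h0 : fY f Y ⟨k, hkN⟩ = 0 := Subtype.ext hk
    rw [h0, ofAdd_zero, map_one, map_one, _root_.mul_one] at h
    exact h
  obtain ⟨h₀, hh₀⟩ := exists_character_range f r hk
  obtain ⟨W', e, h, he, heq⟩ :=
    (isCov_map_of_injective S f.range.subtype (AddSubgroup.subtype_injective f.range)).exists_lift h₀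
  have her : ∀ m, pv h (Multiplicative.ofAdd (f m)) = e.left.appTop (pv r (Multiplicative.ofAdd m)) := by
    intro m
    have h1 := congrArg (fun w => pv w (Multiplicative.ofAdd (⟨f m, ⟨m, rfl⟩⟩ : ↥f.range))) heq
    simp only [pv_map] at h1
    rw [pv_comp, hh₀] at h1
    exact h1.symm
  have e1 : e ≫ r = h ≫ AMonS.map S f := pv_ext fun m => by
    rw [pv_comp, pv_map]
    exact (her m.toAdd).symm
  have e2 : e ≫ y = (h ≫ AMonS.map S Y.subtype) * (e ≫ y') := pv_ext fun v => by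
    obtain ⟨m, hm⟩ := hY v.toAdd.2
    have hmN : f m ∈ Y := hm ▸ v.toAdd.2
    have hv : fY f Y ⟨m, hmN⟩ = v.toAdd := Subtype.ext hm
    rw [pv_mul, pv_comp, pv_comp, pv_map]
    have h1 := hn ⟨m, hmN⟩
    rw [hv] at h1
    have h2 := her m
    rw [hm] at h2
    change e.left.appTop (pv y (Multiplicative.ofAdd v.toAdd)) =
      pv h (Multiplicative.ofAdd (v.toAdd : Z)) * e.left.appTop (pv y' (Multiplicative.ofAdd v.toAdd))
    rw [h2, ← h1]
    exact map_mul e.left.appTop.hom _ _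
  have := he.epi
  rw [hg, a.lift_mul_act]
  congr 2
  rw [← cancel_epi e]
  simp only [comp_lift_assoc]
  rw [e2, e1, ← MonAct.lift_restrict_act,
    ← (MonAct.mem_eqvHom_iff (ρ := subAct S Z Y) (a := a.restrict (AMonS.map S f)) ψ.1).1 ψ.2]
  rw [lift_subAct_act]

theorem attrComap_surjective (hY : Y ≤ AddMonoidHom.mrange f) (T : (Over S)ᵒᵖ) :
    Function.Surjective ((attrComap a f Y).app T) := by
  obtain ⟨T⟩ := T
  intro ψ
  let χ : AMonS S (M × ↥Y) ⊗ T ⟶ X :=
    lift (fst _ _ ≫ pM S M Y) (lift (fst _ _ ≫ pY S M Y) (snd _ _) ≫ ψ.1) ≫ a.act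
  have hχ : ∀ {W : Over S} (z : W ⟶ AMonS S (M × ↥Y)) (t : W ⟶ T),
      lift z t ≫ χ = lift (z ≫ pM S M Y) (lift (z ≫ pY S M Y) t ≫ ψ.1) ≫ a.act := by
    intro W z t
    simp only [χ, comp_lift_assoc, lift_fst_assoc, lift_snd]
  obtain ⟨φ, hφ⟩ := ((isCov_cN (S := S) f Y hY).whiskerRight T).exists_desc χ fun W p q hpq => by
    rw [← lift_comp_fst_snd p, ← lift_comp_fst_snd q] at hpq ⊢
    rw [lift_whiskerRight, lift_whiskerRight] at hpq
    have h1 := congrArg (· ≫ fst _ _) hpq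
    have h2 := congrArg (· ≫ snd _ _) hpq
    simp only [lift_fst, lift_snd] at h1 h2
    rw [hχ, hχ, h2]
    exact cover_condition f Y a hY ψ _ _ h1 _
  have hφz : ∀ {W : Over S} (z : W ⟶ AMonS S (M × ↥Y)) (t : W ⟶ T),
      lift (z ≫ cN S f Y) t ≫ φ = lift (z ≫ pM S M Y) (lift (z ≫ pY S M Y) t ≫ ψ.1) ≫ a.act := by
    intro W z t
    rw [← hχ, ← hφ, lift_whiskerRight_assoc]
  have hmem : MonAct.IsEquivariant ((subAct S M (Y.comap f)).prod (MonAct.trivial (AMonS S M) T)) a φ := by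
    rw [MonAct.mem_eqvHom_iff]
    intro T' g₀ n t
    rw [lift_subAct_act]
    obtain ⟨W, e, z, he, hz⟩ := (isCov_cN (S := S) f Y hY).exists_lift n
    have := he.epi
    rw [← cancel_epi e]
    simp only [comp_lift_assoc, MonObj.comp_mul]
    rw [hz]
    let z₀ : W ⟶ AMonS S (M × ↥Y) := (e ≫ g₀) ≫ AMonS.map S (AddMonoidHom.fst M ↥Y)
    have h0c : z₀ ≫ cN S f Y = (e ≫ g₀) ≫ AMonS.map S (Y.comap f).subtype := pv_ext fun v => by
      rw [pv_map, pv_map, pv_map]
      rfl
    have h0M : z₀ ≫ pM S M Y = e ≫ g₀ := pv_ext fun m => by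
      rw [pv_map, pv_map]
      rfl
    have h0Y : z₀ ≫ pY S M Y = 1 := pv_ext fun v => by
      rw [pv_map, pv_map, pv_one]
      exact map_one _
    rw [← Category.assoc e g₀ (AMonS.map S (Y.comap f).subtype), ← h0c, ← MonObj.mul_comp, hφz, hφz,
      MonObj.mul_comp, MonObj.mul_comp, h0M, h0Y, _root_.one_mul, a.lift_mul_act]
  refine ⟨⟨φ, hmem⟩, Subtype.ext ?_⟩
  change (AMonS.map S (fY f Y) ▷ T) ≫ φ = ψ.1
  refine hom_ext_lift₂ fun W y t => ?_
  rw [lift_whiskerRight_assoc]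
  have hc : (y ≫ AMonS.map S (AddMonoidHom.snd M ↥Y)) ≫ cN S f Y = y ≫ AMonS.map S (fY f Y) := pv_ext fun v => by
    rw [pv_map, pv_map, pv_map]
    rfl
  have hM : (y ≫ AMonS.map S (AddMonoidHom.snd M ↥Y)) ≫ pM S M Y = 1 := pv_ext fun m => by
    rw [pv_map, pv_map, pv_one]
    exact map_one _
  have hy : (y ≫ AMonS.map S (AddMonoidHom.snd M ↥Y)) ≫ pY S M Y = y := pv_ext fun v => by
    rw [pv_map, pv_map]
    rfl
  show lift (y ≫ AMonS.map S (fY f Y)) t ≫ φ = _
  rw [← hc, hφz, hM, hy, a.lift_one_act]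

theorem isIso_attrComap (hY : Y ≤ AddMonoidHom.mrange f) : IsIso (attrComap a f Y) := by
  rw [NatTrans.isIso_iff_isIso_app]
  intro T
  rw [isIso_iff_bijective]
  exact ⟨attrComap_injective f Y a hY T, attrComap_surjective f Y a hY T⟩

end Groth.MagnetDescent
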