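import Groth.Agent.MagnetDescent.Free
import Groth.Agent.MiscGeom.MagnetPts
import Mathlib.AlgebraicGeometry.Sites.Fpqc
import Mathlib.RingTheory.RingHom.FaithfullyFlat
import Mathlib.RingTheory.Flat.FaithfullyFlat.Basic

/-!
# fpqc covers in `Over S` coming from monoid algebras
-/

set_option autoImplicit false
universe u

open CategoryTheory CategoryTheory.Limits MonoidalCategory CartesianMonoidalCategory MonObj AlgebraicGeometry
open Magnet Groth.MiscGeom.Mag

noncomputable section

namespace Groth.MagnetDescent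

variable {S : Scheme.{u}}

/-- flat, surjective, quasi-compact -/
structure IsCov {P Q : Over S} (g : P ⟶ Q) : Prop where
  flat : Flat g.left
  surj : Surjective g.left
  qc : QuasiCompact g.left

theorem IsCov.of_isPullback {P Q P' Q' : Over S} {g : P ⟶ Q} (h : IsCov g) {g' : P' ⟶ Q'} {p : P'.left ⟶ P.left}
    {q : Q'.left ⟶ Q.left} (sq : IsPullback p g'.left g.left q) : IsCov g' :=
  ⟨MorphismProperty.of_isPullback sq h.flat, MorphismProperty.of_isPullback sq h.surj,
    MorphismProperty.of_isPullback sq h.qc⟩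

theorem IsCov.epi {P Q : Over S} {g : P ⟶ Q} (h : IsCov g) : Epi g := by
  have := h.flat; have := h.surj; have := h.qc
  have : Epi g.left := inferInstance
  exact (Over.forget S).epi_of_epi_map ‹Epi g.left›

/-- descent of morphisms along a cover -/
theorem IsCov.exists_desc {P Q X : Over S} {g : P ⟶ Q} (h : IsCov g) (χ : P ⟶ X)
    (hχ : ∀ (W : Over S) (p q : W ⟶ P), p ≫ g = q ≫ g → p ≫ χ = q ≫ χ) : ∃ φ : Q ⟶ X, g ≫ φ = χ := by
  have := h.flat; have := h.surj; have := h.qc
  have hw : ∀ {W : Scheme.{u}} (p q : W ⟶ P.left), p ≫ g.left = q ≫ g.left → p ≫ χ.left = q ≫ χ.left := by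
    intro W p q hpq
    have hq : q ≫ P.hom = p ≫ P.hom := by rw [← Over.w g, ← Category.assoc, ← hpq, Category.assoc]
    exact congrArg CommaMorphism.left (hχ (Over.mk (p ≫ P.hom)) (Over.homMk p rfl) (Over.homMk q hq)
      (Over.OverMorphism.ext hpq))
  let φ := EffectiveEpi.desc g.left χ.left hw
  have hf : g.left ≫ φ = χ.left := EffectiveEpi.fac g.left χ.left hw
  refine ⟨Over.homMk φ ?_, Over.OverMorphism.ext hf⟩
  rw [← cancel_epi g.left, ← Category.assoc, hf, Over.w, Over.w]

/-- lifting a point along a cover, after a cover -/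
theorem IsCov.exists_lift {P Q W : Over S} {g : P ⟶ Q} (h : IsCov g) (x : W ⟶ Q) :
    ∃ (W' : Over S) (e : W' ⟶ W) (z : W' ⟶ P), IsCov e ∧ e ≫ x = z ≫ g := by
  refine ⟨Over.mk (pullback.snd g.left x.left ≫ W.hom), Over.homMk (pullback.snd g.left x.left) rfl,
    Over.homMk (pullback.fst g.left x.left) ?_, ?_, Over.OverMorphism.ext pullback.condition.symm⟩
  · change pullback.fst g.left x.left ≫ P.hom = pullback.snd g.left x.left ≫ W.hom
    rw [← Over.w g, ← Over.w x, ← Category.assoc, pullback.condition, Category.assoc]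
  · exact h.of_isPullback (IsPullback.of_hasPullback g.left x.left)

theorem isPullback_whiskerRight {P Q : Over S} (g : P ⟶ Q) (T : Over S) :
    IsPullback (fst P T).left (g ▷ T).left g.left (fst Q T).left := by
  have h1 : (g ▷ T).left ≫ pullback.snd Q.hom T.hom = pullback.snd P.hom T.hom :=
    congrArg CommaMorphism.left (whiskerRight_snd g T)
  refine (IsPullback.of_right (h₁₂ := pullback.snd Q.hom T.hom) (v₁₃ := T.hom) (h₂₂ := Q.hom) ?_
    (congrArg CommaMorphism.left (whiskerRight_fst g T)) (IsPullback.of_hasPullback Q.hom T.hom).flip).flip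
  rw [h1, Over.w g]
  exact (IsPullback.of_hasPullback P.hom T.hom).flip

theorem IsCov.whiskerRight {P Q : Over S} {g : P ⟶ Q} (h : IsCov g) (T : Over S) : IsCov (g ▷ T) :=
  h.of_isPullback (isPullback_whiskerRight g T)

variable (S)

/-- `A(P)_S → A(H)_S` is a cover when `P` is a disjoint union of translates of `H`. -/
theorem isCov_map {P H : Type} [AddCommMonoid P] [AddCommMonoid H] (f : H →+ P) {Q : Type} [Nonempty Q]
    (σ : Q → P) (hb : Function.Bijective fun z : Q × H ↦ σ z.1 + f z.2) : IsCov (AMonS.map S f) := by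
  let R : Type u := ULift.{u} ℤ
  let φ : Multiplicative H →* Multiplicative P := AddMonoidHom.toMultiplicative f
  let Φ : MonoidAlgebra R (Multiplicative H) →+* MonoidAlgebra R (Multiplicative P) :=
    MonoidAlgebra.mapDomainRingHom R φ
  have hff : Φ.FaithfullyFlat := by
    letI := Φ.toAlgebra
    show Module.FaithfullyFlat _ _
    have : Module.Free (MonoidAlgebra R (Multiplicative H)) (MonoidAlgebra R (Multiplicative P)) :=
      free_mapDomain_of_bijective φ (fun q => Multiplicative.ofAdd (σ q)) hb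
    infer_instance
  rw [RingHom.FaithfullyFlat.iff_flat_and_comap_surjective] at hff
  have e : (AMon.map (ULift.{u} ℤ) f).left = Spec.map (CommRingCat.ofHom Φ) := rfl
  have g1 : Flat (Spec.map (CommRingCat.ofHom Φ)) := Flat.SpecMap_iff.mpr hff.1
  have g2 : Surjective (Spec.map (CommRingCat.ofHom Φ)) := ⟨hff.2⟩
  have g3 : QuasiCompact (Spec.map (CommRingCat.ofHom Φ)) := inferInstance
  have hf1 : Flat (AMon.map (ULift.{u} ℤ) f).left := g1
  have hf2 : Surjective (AMon.map (ULift.{u} ℤ) f).left := g2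
  have hf3 : QuasiCompact (AMon.map (ULift.{u} ℤ) f).left := g3
  have h1 : (AMonS.map S f).left ≫ pullback.fst (AMon (ULift.{u} ℤ) H).hom (toZs S) =
      pullback.fst (AMon (ULift.{u} ℤ) P).hom (toZs S) ≫ (AMon.map (ULift.{u} ℤ) f).left :=
    pullback.lift_fst _ _ _
  have sq : IsPullback (pullback.fst (AMon (ULift.{u} ℤ) P).hom (toZs S)) (AMonS.map S f).left
      (AMon.map (ULift.{u} ℤ) f).left (pullback.fst (AMon (ULift.{u} ℤ) H).hom (toZs S)) := by
    refine IsPullback.of_bot (v₂₁ := pullback.snd (AMon (ULift.{u} ℤ) H).hom (toZs S))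
      (v₂₂ := (AMon (ULift.{u} ℤ) H).hom) (h₃₁ := toZs S) ?_ h1.symm (IsPullback.of_hasPullback _ _)
    rw [Over.w (AMon.map (ULift.{u} ℤ) f)]
    have h2 : (AMonS.map S f).left ≫ pullback.snd (AMon (ULift.{u} ℤ) H).hom (toZs S) =
        pullback.snd (AMon (ULift.{u} ℤ) P).hom (toZs S) := Over.w (AMonS.map S f)
    rw [h2]
    exact IsPullback.of_hasPullback _ _
  exact ⟨MorphismProperty.of_isPullback sq hf1, MorphismProperty.of_isPullback sq hf2,
    MorphismProperty.of_isPullback sq hf3⟩

/-- the map of diagonalizable groups of an injection of groups is a cover -/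
theorem isCov_map_of_injective {P H : Type} [AddCommGroup P] [AddCommGroup H] (f : H →+ P)
    (hf : Function.Injective f) : IsCov (AMonS.map S f) := by
  have hmk : ∀ q : P ⧸ f.range, (QuotientAddGroup.mk q.out : P ⧸ f.range) = q := fun q ↦ Quotient.out_eq q
  refine isCov_map S f (Q := P ⧸ f.range) Quotient.out ⟨?_, fun g ↦ ?_⟩
  · rintro ⟨q, h⟩ ⟨q', h'⟩ e
    simp only at e
    have e1 := congrArg (QuotientAddGroup.mk (s := f.range)) e
    rw [QuotientAddGroup.mk_add, QuotientAddGroup.mk_add, hmk, hmk,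
      (QuotientAddGroup.eq_zero_iff _).mpr (show f h ∈ f.range from ⟨h, rfl⟩),
      (QuotientAddGroup.eq_zero_iff _).mpr (show f h' ∈ f.range from ⟨h', rfl⟩), add_zero, add_zero] at e1
    subst e1
    exact Prod.ext rfl (hf (add_left_cancel e))
  · obtain ⟨h, hh⟩ : -(QuotientAddGroup.mk g : P ⧸ f.range).out + g ∈ f.range := by
      rw [← QuotientAddGroup.eq_zero_iff, QuotientAddGroup.mk_add, QuotientAddGroup.mk_neg, hmk,
        neg_add_cancel]
    exact ⟨(QuotientAddGroup.mk g, h), by simp [hh]⟩

end Groth.MagnetDescent
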