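import Mathlib.Algebra.MonoidAlgebra.Basic
import Mathlib.Algebra.MonoidAlgebra.MapDomain
import Mathlib.Algebra.MonoidAlgebra.Module
import Mathlib.Algebra.MonoidAlgebra.Lift
import Mathlib.LinearAlgebra.FreeModule.Basic
import Mathlib.RingTheory.RingHom.FaithfullyFlat
import Mathlib.LinearAlgebra.Finsupp.LinearCombination
import Mathlib.LinearAlgebra.FreeModule.Finite.Basic

/-!
# Monoid algebras free over a submonoid algebra with a set of representatives
-/

set_option autoImplicit false

noncomputable section

namespace Groth.MagnetDescent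

/-- If `P` is the disjoint union of the translates `σ q * φ H` (and each translation is injective), then
`R[P]` is free over `R[H]`. -/
theorem free_mapDomain_of_bijective {R : Type*} [CommRing R] {P H : Type*} [CommMonoid P] [CommMonoid H]
    (φ : H →* P) {Q : Type*} (σ : Q → P) (hb : Function.Bijective fun z : Q × H ↦ σ z.1 * φ z.2) :
    letI := (MonoidAlgebra.mapDomainRingHom R φ).toAlgebra
    Module.Free (MonoidAlgebra R H) (MonoidAlgebra R P) := by
  letI := (MonoidAlgebra.mapDomainRingHom R φ).toAlgebra
  let b : Q × H → P := fun z ↦ σ z.1 * φ z.2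
  let Φ : (Q →₀ MonoidAlgebra R H) →ₗ[MonoidAlgebra R H] MonoidAlgebra R P :=
    Finsupp.linearCombination (MonoidAlgebra R H) fun q ↦ MonoidAlgebra.single (σ q) (1 : R)
  have hΦ : ∀ q h (r : R), Φ (Finsupp.single q (MonoidAlgebra.single h r)) = MonoidAlgebra.single (b (q, h)) r := by
    intro q h r
    simp only [Φ, Finsupp.linearCombination_single, Algebra.smul_def, RingHom.algebraMap_toAlgebra]
    simp [b, mul_comm]
  let Ψ : MonoidAlgebra R P →+ (Q →₀ MonoidAlgebra R H) :=
    (Finsupp.liftAddHom fun g ↦ ((Finsupp.singleAddHom ((Equiv.ofBijective b hb).symm g).1).comp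
      (MonoidAlgebra.singleAddHom ((Equiv.ofBijective b hb).symm g).2))).comp
      (MonoidAlgebra.coeffAddEquiv (R := R) (M := P)).toAddMonoidHom
  have hΨ : ∀ g (r : R), Ψ (MonoidAlgebra.single g r) =
      Finsupp.single ((Equiv.ofBijective b hb).symm g).1
        (MonoidAlgebra.single ((Equiv.ofBijective b hb).symm g).2 r) := fun g r ↦ by simp [Ψ]
  refine Module.Free.of_equiv (LinearEquiv.ofBijective Φ ⟨?_, ?_⟩)
  · refine Function.LeftInverse.injective (g := Ψ) fun x ↦ ?_
    induction x using Finsupp.induction_linear with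
    | zero => simp
    | add x y hx hy => rw [map_add, map_add, hx, hy]
    | single q a =>
      induction a using MonoidAlgebra.induction_linear with
      | zero => simp
      | add x y hx hy => rw [Finsupp.single_add, map_add, map_add, hx, hy]
      | single h r =>
        rw [hΦ, hΨ]
        have e : (Equiv.ofBijective b hb).symm (b (q, h)) = (q, h) := (Equiv.ofBijective b hb).symm_apply_apply _
        rw [e]
  · intro x
    induction x using MonoidAlgebra.induction_linear with
    | zero => exact ⟨0, map_zero _⟩
    | add x y hx hy => obtain ⟨a, rfl⟩ := hx; obtain ⟨c, rfl⟩ := hy; exact ⟨a + c, map_add _ _ _⟩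
    | single g r =>
      obtain ⟨⟨q, h⟩, rfl⟩ := hb.2 g
      exact ⟨_, hΦ q h r⟩

end Groth.MagnetDescent
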